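import Cfsg.Prelude.Def_SporadicCombinatorics

/-!
# The hexacode over an abstract field with four elements, through index tables
-/

set_option autoImplicit false

namespace Cfsg.Agent.Lib.SmallCodes

open Cfsg Equiv

/-- Addition table for `0, 1, ω, ω²`. -/
def f4Add : Fin 4 → Fin 4 → Fin 4 := ![![0, 1, 2, 3], ![1, 0, 3, 2], ![2, 3, 0, 1], ![3, 2, 1, 0]]

/-- Multiplication table for `0, 1, ω, ω²`. -/
def f4Mul : Fin 4 → Fin 4 → Fin 4 := ![![0, 0, 0, 0], ![0, 1, 2, 3], ![0, 2, 3, 1], ![0, 3, 1, 2]]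

/-- The three generators of the hexacode. -/
def hexGen : Fin 3 → Fin 6 → Fin 4 := ![![2, 3, 3, 2, 3, 2], ![3, 2, 2, 3, 3, 2], ![3, 2, 3, 2, 2, 3]]

/-- The combination with coefficients `a`, `b`, `c`. -/
def hexComb (a b c : Fin 4) : Fin 6 → Fin 4 := fun i =>
  f4Add (f4Add (f4Mul a (hexGen 0 i)) (f4Mul b (hexGen 1 i))) (f4Mul c (hexGen 2 i))

/-- The `n`-th word. -/
def hexWord (n : Fin 64) : Fin 6 → Fin 4 :=
  hexComb ⟨n.val % 4, by omega⟩ ⟨n.val / 4 % 4, by omega⟩ ⟨n.val / 16, by omega⟩

/-- The code number of a word over `Fin 4`. -/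
def word4Code (w : Fin 6 → Fin 4) : ℕ :=
  (w 0).val + 4 * (w 1).val + 16 * (w 2).val + 64 * (w 3).val + 256 * (w 4).val + 1024 * (w 5).val

theorem word4Code_injective : Function.Injective word4Code := by
  intro u v h
  simp only [word4Code] at h
  funext i
  apply Fin.ext
  have := (u 0).isLt; have := (u 1).isLt; have := (u 2).isLt
  have := (u 3).isLt; have := (u 4).isLt; have := (u 5).isLt
  have := (v 0).isLt; have := (v 1).isLt; have := (v 2).isLt
  have := (v 3).isLt; have := (v 4).isLt; have := (v 5).isLt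
  fin_cases i <;> simp only [Fin.reduceFinMk, Fin.zero_eta, Fin.mk_one] <;> omega

/-- Membership table of the hexacode. -/
def hexacodeTable : ℕ := 0x1000000000000000000200000000000000000040000000000000000008000000040000000000008000000000000000000000000000010000000000002000000000000008000000000000000000004200000000000000000000100000000000000000000000200000000001000000000000008000000000040000000000000000008000000000040000000000000000000000000000002000000000010000000200000000000000000000100000000000000008000000000000000000004000000000000001000000000000200000000000040000000000008000000000000000000000004000000000000000000800100000000000000000020000000000000000000200000000000000000000100008000000000000000000004000000000000000000000008000000000040000000000200000000001000000000000000040000000000000000008000000000000000000000010000000000000000002000000010000000000002000000000000000000000000400000000000080000000000000000000040000000000008000000001000000000000200000000000000000000000100000000000000000020000004000000000000000000800000000000000002000000000010000000000000000000000000080000000000400000008000000000000000000004000000000000000000002000000000000000000001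

theorem hexacodeTable_words : ∀ n, hexacodeTable.testBit (word4Code (hexWord n)) = true := by
  decide +kernel

theorem hexacodeTable_check : ((List.range 4096).all fun m => !(hexacodeTable.testBit m) ||
    (List.finRange 64).any fun n => word4Code (hexWord n) == m) = true := by
  decide +kernel

theorem hexacodeTable_sound (w : Fin 6 → Fin 4) (h : hexacodeTable.testBit (word4Code w) = true) :
    ∃ n, hexWord n = w := by
  have hlt : word4Code w < 4096 := by
    simp only [word4Code]
    have := (w 0).isLt; have := (w 1).isLt; have := (w 2).isLt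
    have := (w 3).isLt; have := (w 4).isLt; have := (w 5).isLt
    omega
  have h0 := List.all_eq_true.1 hexacodeTable_check (word4Code w) (List.mem_range.2 hlt)
  simp only [h, Bool.not_true, Bool.false_or, List.any_eq_true, beq_iff_eq] at h0
  obtain ⟨n, -, hn⟩ := h0
  exact ⟨n, word4Code_injective hn⟩

theorem hexWord_injective : Function.Injective hexWord := by
  have key : ∀ m n : Fin 64, word4Code (hexWord m) = word4Code (hexWord n) → m = n := by decide +kernel
  exact fun m n h => key m n (congrArg word4Code h)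

variable {F : Type*} [Field F] [Fintype F]

/-- The four elements in the order `0, 1, ω, ω²`. -/
def f4Val (ω : F) : Fin 4 → F := ![0, 1, ω, ω ^ 2]

theorem f4_two (hF : Fintype.card F = 4) : (2 : F) = 0 := by
  have h : ((Fintype.card F : ℕ) : F) = 0 := Nat.cast_card_eq_zero F
  rw [hF] at h
  have h2 : (2 : F) * 2 = 0 := by norm_num; exact_mod_cast h
  exact mul_self_eq_zero.1 h2

theorem f4Val_add (hF : Fintype.card F = 4) {ω : F} (hω : ω ^ 2 + ω + 1 = 0) (a b : Fin 4) :
    f4Val ω (f4Add a b) = f4Val ω a + f4Val ω b := by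
  have h2 := f4_two hF
  fin_cases a <;> fin_cases b <;> simp [f4Val, f4Add] <;> grind

theorem f4Val_mul (hF : Fintype.card F = 4) {ω : F} (hω : ω ^ 2 + ω + 1 = 0) (a b : Fin 4) :
    f4Val ω (f4Mul a b) = f4Val ω a * f4Val ω b := by
  have h2 := f4_two hF
  fin_cases a <;> fin_cases b <;> simp [f4Val, f4Mul] <;> grind

theorem f4Val_injective (hF : Fintype.card F = 4) {ω : F} (hω : ω ^ 2 + ω + 1 = 0) :
    Function.Injective (f4Val ω) := by
  have h2 := f4_two hF
  have h01 : (1 : F) ≠ 0 := one_ne_zero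
  have hw0 : ω ≠ 0 := fun e => h01 (by linear_combination hω - (ω + 1) * e)
  have hw1 : ω ≠ 1 := fun e => h01 (by linear_combination hω - (ω + 2) * e - h2)
  have hww1 : ω ^ 2 ≠ 1 := fun e => hw0 (by linear_combination hω - e - h2)
  have hwww : ω ^ 2 ≠ ω := fun e => h01 (by linear_combination hω - e - ω * h2)
  intro a b
  fin_cases a <;> fin_cases b <;> simp [f4Val] <;> grind

theorem f4Val_bijective (hF : Fintype.card F = 4) {ω : F} (hω : ω ^ 2 + ω + 1 = 0) :
    Function.Bijective (f4Val ω) :=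
  (Fintype.bijective_iff_injective_and_card _).2
    ⟨f4Val_injective hF hω, by rw [Fintype.card_fin, hF]⟩

theorem f4Val_comp_injective (hF : Fintype.card F = 4) {ω : F} (hω : ω ^ 2 + ω + 1 = 0) :
    Function.Injective fun w : Fin 6 → Fin 4 => f4Val ω ∘ w :=
  (f4Val_injective hF hω).comp_left

theorem mem_hexacode_iff (hF : Fintype.card F = 4) {ω : F} (hω : ω ^ 2 + ω + 1 = 0)
    (x : Fin 6 → F) : x ∈ hexacode F ω ↔ ∃ n, f4Val ω ∘ hexWord n = x := by
  have hg : ∀ k, f4Val ω ∘ hexGen k =
      ![![ω, ω ^ 2, ω ^ 2, ω, ω ^ 2, ω], ![ω ^ 2, ω, ω, ω ^ 2, ω ^ 2, ω],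
        ![ω ^ 2, ω, ω ^ 2, ω, ω, ω ^ 2]] k := by
    intro k
    funext i
    fin_cases k <;> fin_cases i <;> rfl
  have hcomb : ∀ a b c, f4Val ω ∘ hexComb a b c = f4Val ω a • (f4Val ω ∘ hexGen 0) +
      f4Val ω b • (f4Val ω ∘ hexGen 1) + f4Val ω c • (f4Val ω ∘ hexGen 2) := by
    intro a b c
    funext i
    simp [hexComb, f4Val_add hF hω, f4Val_mul hF hω]
  unfold hexacode
  simp only [Submodule.mem_span_insert, Submodule.mem_span_singleton]
  constructor
  · rintro ⟨a, _, ⟨b, _, ⟨c, rfl⟩, rfl⟩, rfl⟩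
    obtain ⟨a, rfl⟩ := (f4Val_bijective hF hω).2 a
    obtain ⟨b, rfl⟩ := (f4Val_bijective hF hω).2 b
    obtain ⟨c, rfl⟩ := (f4Val_bijective hF hω).2 c
    refine ⟨⟨a.val + 4 * b.val + 16 * c.val, by omega⟩, ?_⟩
    have : hexWord ⟨a.val + 4 * b.val + 16 * c.val, by omega⟩ = hexComb a b c := by
      unfold hexWord
      congr 1 <;> apply Fin.ext <;> simp only <;> omega
    rw [this, hcomb, hg, hg, hg, add_assoc]
    rfl
  · rintro ⟨n, rfl⟩
    unfold hexWord
    rw [hcomb, hg, hg, hg]
    exact ⟨_, _, ⟨_, _, ⟨_, rfl⟩, rfl⟩, add_assoc _ _ _⟩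

/-- The monomial map preservation test on the tables. -/
def hexPres (si : Fin 6 → Fin 6) (d : Fin 6 → Fin 4) : Bool :=
  (List.finRange 3).all fun k => hexacodeTable.testBit (word4Code fun i => f4Mul (d i) (hexGen k (si i)))

theorem monomialMap_f4Val (hF : Fintype.card F = 4) {ω : F} (hω : ω ^ 2 + ω + 1 = 0)
    (σ : Perm (Fin 6)) (c : Fin 6 → Fˣ) (d : Fin 6 → Fin 4) (hd : ∀ i, f4Val ω (d i) = c i)
    (w : Fin 6 → Fin 4) :
    monomialMap σ c (f4Val ω ∘ w) = f4Val ω ∘ fun i => f4Mul (d i) (w (σ.symm i)) := by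
  funext i
  simp [monomialMap, f4Val_mul hF hω, hd]

theorem hexPres_iff (hF : Fintype.card F = 4) {ω : F} (hω : ω ^ 2 + ω + 1 = 0)
    (σ : Perm (Fin 6)) (c : Fin 6 → Fˣ) (d : Fin 6 → Fin 4) (hd : ∀ i, f4Val ω (d i) = c i) :
    (∀ x ∈ hexacode F ω, monomialMap σ c x ∈ hexacode F ω) ↔ hexPres σ.symm d = true := by
  have hgen : ∀ k, ∃ n, hexWord n = hexGen k := fun k => hexacodeTable_sound _ (by
    revert k; decide +kernel)
  constructor
  · intro h
    simp only [hexPres, List.all_eq_true]
    intro k _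
    obtain ⟨n, hn⟩ := hgen k
    obtain ⟨m, hm⟩ := (mem_hexacode_iff hF hω _).1
      (h _ ((mem_hexacode_iff hF hω _).2 ⟨n, rfl⟩))
    rw [monomialMap_f4Val hF hω σ c d hd, hn] at hm
    rw [← f4Val_comp_injective hF hω hm]
    exact hexacodeTable_words m
  · intro h x hx
    simp only [hexPres, List.all_eq_true] at h
    have hk : ∀ k, monomialMap σ c (f4Val ω ∘ hexGen k) ∈ hexacode F ω := fun k => by
      obtain ⟨m, hm⟩ := hexacodeTable_sound _ (h k (List.mem_finRange k))
      rw [monomialMap_f4Val hF hω σ c d hd]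
      exact (mem_hexacode_iff hF hω _).2 ⟨m, by rw [hm]⟩
    obtain ⟨n, rfl⟩ := (mem_hexacode_iff hF hω x).1 hx
    unfold hexWord
    generalize (⟨n.val % 4, _⟩ : Fin 4) = a
    generalize (⟨n.val / 4 % 4, _⟩ : Fin 4) = b
    generalize (⟨n.val / 16, _⟩ : Fin 4) = e
    have hrw : monomialMap σ c (f4Val ω ∘ hexComb a b e) =
        f4Val ω a • monomialMap σ c (f4Val ω ∘ hexGen 0) +
        f4Val ω b • monomialMap σ c (f4Val ω ∘ hexGen 1) +
        f4Val ω e • monomialMap σ c (f4Val ω ∘ hexGen 2) := by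
      funext i
      simp [monomialMap, hexComb, f4Val_add hF hω, f4Val_mul hF hω]
      ring
    rw [hrw]
    exact Submodule.add_mem _ (Submodule.add_mem _ (Submodule.smul_mem _ _ (hk 0))
      (Submodule.smul_mem _ _ (hk 1))) (Submodule.smul_mem _ _ (hk 2))

/-- Six nonzero scalars from a number below 729. -/
def diag729 (m : Fin 729) : Fin 6 → Fin 4 := fun i => ⟨m.val / 3 ^ i.val % 3 + 1, by omega⟩

theorem diag729_surj (d : Fin 6 → Fin 4) (h : ∀ i, d i ≠ 0) : ∃ m, diag729 m = d := by
  have hv : ∀ i, 1 ≤ (d i).val ∧ (d i).val < 4 := fun i =>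
    ⟨Nat.one_le_iff_ne_zero.2 (fun e => h i (Fin.ext e)), (d i).isLt⟩
  have := hv 0; have := hv 1; have := hv 2; have := hv 3; have := hv 4; have := hv 5
  refine ⟨⟨(d 0).val - 1 + 3 * ((d 1).val - 1) + 9 * ((d 2).val - 1) + 27 * ((d 3).val - 1) +
    81 * ((d 4).val - 1) + 243 * ((d 5).val - 1), by omega⟩, ?_⟩
  funext i
  apply Fin.ext
  simp only [diag729]
  fin_cases i <;> simp only [Fin.reduceFinMk, Fin.zero_eta, Fin.mk_one] <;> norm_num <;> omega

theorem hex_diag_check : ∀ m : Fin 729, hexPres id (diag729 m) = true →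
    ∀ i, diag729 m i = diag729 m 0 := by
  decide +kernel

theorem hex_swap_check : ∀ m : Fin 729, hexPres ![1, 0, 2, 3, 4, 5] (diag729 m) = false := by
  decide +kernel

/-- Scalars lifting `swap 0 1 * swap a b`. -/
def hexLift (a b : Fin 6) : Fin 6 → Fin 4 :=
  if (a.val, b.val) = (0, 2) ∨ (b.val, a.val) = (0, 2) then ![1, 1, 1, 1, 2, 3] else if (a.val, b.val) = (0, 3) ∨ (b.val, a.val) = (0, 3) then ![1, 1, 1, 1, 3, 2] else if (a.val, b.val) = (0, 4) ∨ (b.val, a.val) = (0, 4) then ![1, 1, 2, 3, 1, 1] else if (a.val, b.val) = (0, 5) ∨ (b.val, a.val) = (0, 5) then ![1, 1, 3, 2, 1, 1] else if (a.val, b.val) = (1, 2) ∨ (b.val, a.val) = (1, 2) then ![1, 1, 1, 1, 3, 2] else if (a.val, b.val) = (1, 3) ∨ (b.val, a.val) = (1, 3) then ![1, 1, 1, 1, 2, 3] else if (a.val, b.val) = (1, 4) ∨ (b.val, a.val) = (1, 4) then ![1, 1, 3, 2, 1, 1] else if (a.val, b.val) = (1, 5) ∨ (b.val, a.val) = (1, 5) then ![1, 1, 2, 3, 1, 1] else if (a.val, b.val) = (2, 3) ∨ (b.val, a.val) = (2, 3) then ![1, 1, 1, 1,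 1, 1] else if (a.val, b.val) = (2, 4) ∨ (b.val, a.val) = (2, 4) then ![1, 3, 2, 2, 2, 2] else if (a.val, b.val) = (2, 5) ∨ (b.val, a.val) = (2, 5) then ![1, 2, 3, 3, 3, 3] else if (a.val, b.val) = (3, 4) ∨ (b.val, a.val) = (3, 4) then ![1, 2, 3, 3, 3, 3] else if (a.val, b.val) = (3, 5) ∨ (b.val, a.val) = (3, 5) then ![1, 3, 2, 2, 2, 2] else if (a.val, b.val) = (4, 5) ∨ (b.val, a.val) = (4, 5) then ![1, 1, 1, 1, 1, 1] else
  fun _ => 1

theorem hexLift_check : ∀ a b : Fin 6, a ≠ b →
    hexPres (fun i => Equiv.swap a b (Equiv.swap 0 1 i)) (hexLift a b) = true ∧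
      ∀ i, hexLift a b i ≠ 0 := by
  decide +kernel

end Cfsg.Agent.Lib.SmallCodes
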