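import Cfsg.Prelude.Def_SporadicCombinatorics

/-!
# The ternary code of length 12: an explicit parametrisation by 729 words

Positions are numbered by `pidx (c, r) = 3 * c + r`.
-/

set_option autoImplicit false

namespace Cfsg.Agent.Lib.SmallCodes

open Cfsg

/-- Number of a position. -/
def pidx : ArrayPt ≃ Fin 12 where
  toFun p := ⟨3 * p.1.val + p.2.val, by have := p.1.isLt; have := p.2.val_lt; omega⟩
  invFun i := (⟨i.val / 3, by have := i.isLt; omega⟩, (i.val : ZMod 3))
  left_inv := by decide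
  right_inv := by decide

/-- The six basis rows. -/
def tGenRow : Fin 6 → Fin 12 → ZMod 3 :=
  ![![1, 0, 0, 0, 0, 1, 0, 0, 1, 1, 1, 2], ![0, 1, 0, 0, 0, 1, 0, 2, 2, 2, 0, 2], ![0, 0, 1, 0, 0, 1, 0, 1, 0, 2, 1, 1], ![0, 0, 0, 1, 0, 2, 0, 2, 1, 2, 1, 0], ![0, 0, 0, 0, 1, 2, 0, 1, 2, 0, 1, 2], ![0, 0, 0, 0, 0, 0, 1, 1, 1, 2, 2, 2]]

/-- The six basis words. -/
def tGen (j : Fin 6) : ArrayPt → ZMod 3 := fun p => tGenRow j (pidx p)

/-- The information positions. -/
def tInfo : Fin 6 → ArrayPt := fun j => pidx.symm (![0, 1, 2, 3, 4, 6] j)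

/-- The word with given coefficients. -/
def tComb (a : Fin 6 → ZMod 3) : ArrayPt → ZMod 3 := fun p => ∑ j, a j * tGen j p

/-- The nine tetracode words. -/
def tetWord (a b : ZMod 3) : Fin 4 → ZMod 3 := a • ![0, 1, 1, 1] + b • ![1, 0, 1, 2]

theorem mem_tetracode_iff (t : Fin 4 → ZMod 3) : t ∈ tetracode ↔ ∃ a b, tetWord a b = t := by
  unfold tetracode tetWord
  exact Submodule.mem_span_pair

/-- A checkable form of the defining conditions. -/
def IsWord' (x : ArrayPt → ZMod 3) : Prop :=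
  ∃ s : ZMod 3, (∀ i : Fin 4, ∑ r : ZMod 3, x (i, r) = -s) ∧
    ∀ a b : ZMod 3, ∑ i : Fin 4, x (i, tetWord a b i) = s

instance decIsWord' : DecidablePred IsWord' := fun x => by unfold IsWord'; infer_instance

theorem mem_code_iff' (x : ArrayPt → ZMod 3) : x ∈ ternaryGolayCode ↔ IsWord' x := by
  constructor
  · rintro ⟨s, h1, h2⟩
    exact ⟨s, h1, fun a b => h2 _ ((mem_tetracode_iff _).2 ⟨a, b, rfl⟩)⟩
  · rintro ⟨s, h1, h2⟩
    refine ⟨s, h1, fun t ht => ?_⟩
    obtain ⟨a, b, rfl⟩ := (mem_tetracode_iff t).1 ht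
    exact h2 a b

theorem tGen_mem (j : Fin 6) : tGen j ∈ ternaryGolayCode := by
  rw [mem_code_iff']
  revert j
  decide +kernel

theorem tComb_eq (a : Fin 6 → ZMod 3) : tComb a = ∑ j, a j • tGen j := by
  funext p
  simp [tComb, Finset.sum_apply]

theorem tComb_mem (a : Fin 6 → ZMod 3) : tComb a ∈ ternaryGolayCode := by
  rw [tComb_eq]
  exact Submodule.sum_mem _ fun j _ => Submodule.smul_mem _ _ (tGen_mem j)

theorem tComb_info (a : Fin 6 → ZMod 3) (j : Fin 6) : tComb a (tInfo j) = a j := by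
  have h : ∀ i j : Fin 6, tGen i (tInfo j) = if i = j then 1 else 0 := by decide +kernel
  simp [tComb, h]

/-- The six free positions outside the information positions, filled by `y`. -/
def offInfo (n : Fin 729) : ArrayPt → ZMod 3 := fun p =>
  ![0, 0, 0, 0, 0, (n.val / 1 : ℕ), 0, (n.val / 3 : ℕ), (n.val / 9 : ℕ), (n.val / 27 : ℕ), (n.val / 81 : ℕ), (n.val / 243 : ℕ)] (pidx p)

theorem mem_code_iff (x : ArrayPt → ZMod 3) :
    x ∈ ternaryGolayCode ↔ ∃ a, tComb a = x := by
  refine ⟨fun hx => ⟨fun j => x (tInfo j), ?_⟩, ?_⟩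
  · set d := x - tComb (fun j => x (tInfo j)) with hd
    have hmem : d ∈ ternaryGolayCode := Submodule.sub_mem _ hx (tComb_mem _)
    have hz : ∀ j, d (tInfo j) = 0 := fun j => by simp [hd, tComb_info]
    have hn : ∃ n : Fin 729, offInfo n = d := by
      refine ⟨⟨(d (pidx.symm 5)).val * 1 + (d (pidx.symm 7)).val * 3 + (d (pidx.symm 8)).val * 9 + (d (pidx.symm 9)).val * 27 + (d (pidx.symm 10)).val * 81 + (d (pidx.symm 11)).val * 243, by
        have h := fun i : Fin 12 => (d (pidx.symm i)).val_lt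
        have := h 5; have := h 7; have := h 8; have := h 9; have := h 10; have := h 11
        omega⟩, ?_⟩
      funext p
      obtain ⟨i, rfl⟩ := pidx.symm.surjective p
      have hlt := fun i : Fin 12 => (d (pidx.symm i)).val_lt
      have := hlt 5; have := hlt 7; have := hlt 8; have := hlt 9; have := hlt 10; have := hlt 11
      simp only [offInfo, Equiv.apply_symm_apply]
      have cast : ∀ (m : ℕ) (z : ZMod 3), m % 3 = z.val → (m : ZMod 3) = z := by
        intro m z h
        rw [← ZMod.natCast_mod, h, ZMod.natCast_zmod_val]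
      have hi : ∀ i : Fin 12, i = 0 ∨ i = 1 ∨ i = 2 ∨ i = 3 ∨ i = 4 ∨ i = 5 ∨ i = 6 ∨ i = 7 ∨ i = 8 ∨ i = 9 ∨ i = 10 ∨ i = 11 := by decide
      rcases hi i with rfl | rfl | rfl | rfl | rfl | rfl | rfl | rfl | rfl | rfl | rfl | rfl <;>
        simp only [Matrix.cons_val, Matrix.cons_val_zero, Matrix.cons_val_one]
      · exact (hz 0).symm
      · exact (hz 1).symm
      · exact (hz 2).symm
      · exact (hz 3).symm
      · exact (hz 4).symm
      · exact cast _ _ (by omega)
      · exact (hz 5).symm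
      · exact cast _ _ (by omega)
      · exact cast _ _ (by omega)
      · exact cast _ _ (by omega)
      · exact cast _ _ (by omega)
      · exact cast _ _ (by omega)
    obtain ⟨n, hn⟩ := hn
    have key : ∀ n : Fin 729, IsWord' (offInfo n) → n = 0 := by decide +kernel
    have h0 := key n (by rw [hn]; exact (mem_code_iff' d).1 hmem)
    rw [h0] at hn
    have : d = 0 := by rw [← hn]; decide +kernel
    exact (sub_eq_zero.1 (hd ▸ this)).symm
  · rintro ⟨a, rfl⟩
    exact tComb_mem a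

/-- The `n`-th code word. -/
def tWord (n : Fin 729) : ArrayPt → ZMod 3 :=
  tComb fun j => ((n.val / 3 ^ j.val : ℕ) : ZMod 3)

theorem mem_code_iff_tWord (x : ArrayPt → ZMod 3) :
    x ∈ ternaryGolayCode ↔ ∃ n, tWord n = x := by
  rw [mem_code_iff]
  constructor
  · rintro ⟨a, rfl⟩
    refine ⟨⟨(a 0).val * 1 + (a 1).val * 3 + (a 2).val * 9 + (a 3).val * 27 + (a 4).val * 81 + (a 5).val * 243, by
      have := (a 0).val_lt; have := (a 1).val_lt; have := (a 2).val_lt; have := (a 3).val_lt; have := (a 4).val_lt; have := (a 5).val_lt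
      omega⟩, ?_⟩
    show tComb _ = tComb a
    apply congrArg tComb
    funext j
    have := fun i => (a i).val_lt
    have := (a 0).val_lt; have := (a 1).val_lt; have := (a 2).val_lt; have := (a 3).val_lt; have := (a 4).val_lt; have := (a 5).val_lt
    have cast : ∀ (m : ℕ) (z : ZMod 3), m % 3 = z.val → (m : ZMod 3) = z := by
      intro m z h
      rw [← ZMod.natCast_mod, h, ZMod.natCast_zmod_val]
    apply cast
    have hj : ∀ i : Fin 6, i = 0 ∨ i = 1 ∨ i = 2 ∨ i = 3 ∨ i = 4 ∨ i = 5 := by decide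
    rcases hj j with rfl | rfl | rfl | rfl | rfl | rfl <;> norm_num [Fin.val_zero, Fin.val_one, Fin.val_two] <;> omega
  · rintro ⟨n, rfl⟩
    exact ⟨_, rfl⟩

theorem tWord_injective : Function.Injective tWord := by
  intro m n h
  have e : ∀ j : Fin 6, ((m.val / 3 ^ j.val : ℕ) : ZMod 3) = ((n.val / 3 ^ j.val : ℕ) : ZMod 3) := by
    intro j
    have := congrFun h (tInfo j)
    rwa [tWord, tWord, tComb_info, tComb_info] at this
  have e' : ∀ j : Fin 6, m.val / 3 ^ j.val % 3 = n.val / 3 ^ j.val % 3 := fun j => by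
    have := congrArg ZMod.val (e j)
    rwa [ZMod.val_natCast, ZMod.val_natCast] at this
  have h0 := e' 0; have h1 := e' 1; have h2 := e' 2; have h3 := e' 3; have h4 := e' 4; have h5 := e' 5
  simp only [Fin.val_zero, Fin.val_one, Fin.val_two, Fin.reduceFinMk] at h0 h1 h2 h3 h4 h5
  have := m.isLt; have := n.isLt
  apply Fin.ext
  norm_num at h0 h1 h2 h3 h4 h5
  omega

/-- Counting code words with a decidable property. -/
theorem ncard_code_pred (P : (ArrayPt → ZMod 3) → Prop) [DecidablePred P] :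
    {x : ArrayPt → ZMod 3 | x ∈ ternaryGolayCode ∧ P x}.ncard =
      (Finset.univ.filter fun n => P (tWord n)).card := by
  have h : {x : ArrayPt → ZMod 3 | x ∈ ternaryGolayCode ∧ P x} =
      tWord '' ↑(Finset.univ.filter fun n => P (tWord n)) := by
    ext x
    simp only [Set.mem_image, Finset.coe_filter, Finset.mem_univ, true_and, Set.mem_setOf_eq]
    constructor
    · rintro ⟨hx, hP⟩
      obtain ⟨n, rfl⟩ := (mem_code_iff_tWord x).1 hx
      exact ⟨n, hP, rfl⟩
    · rintro ⟨n, hP, rfl⟩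
      exact ⟨(mem_code_iff_tWord _).2 ⟨n, rfl⟩, hP⟩
  rw [h, Set.ncard_image_of_injective _ tWord_injective, Set.ncard_coe_finset]

/-- A check on all code words transfers to the code. -/
theorem forall_code {P : (ArrayPt → ZMod 3) → Prop} (h : ∀ n, P (tWord n))
    {x : ArrayPt → ZMod 3} (hx : x ∈ ternaryGolayCode) : P x := by
  obtain ⟨n, rfl⟩ := (mem_code_iff_tWord x).1 hx
  exact h n

end Cfsg.Agent.Lib.SmallCodes
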