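import Cfsg.Agent.Lib.SmallCodes.Ternary

/-!
# The Steiner system of weight six supports of the ternary code, as bit masks
-/

set_option autoImplicit false

namespace Cfsg.Agent.Lib.SmallCodes

open Cfsg

/-- Bit mask of a set of positions. -/
def mask (h : Finset ArrayPt) : ℕ := Nat.ofBits fun i : Fin 12 => decide (pidx.symm i ∈ h)

/-- The set of positions of a bit mask. -/
def maskSet (m : ℕ) : Finset ArrayPt := Finset.univ.filter fun p => m.testBit (pidx p).val

theorem testBit_mask (h : Finset ArrayPt) (p : ArrayPt) :
    (mask h).testBit (pidx p).val = decide (p ∈ h) := by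
  simp [mask, Nat.testBit_ofBits, (pidx p).isLt]

theorem maskSet_mask (h : Finset ArrayPt) : maskSet (mask h) = h := by
  ext p
  simp [maskSet, testBit_mask]

theorem mask_injective : Function.Injective mask := fun a b h => by
  rw [← maskSet_mask a, h, maskSet_mask]

theorem mask_lt (h : Finset ArrayPt) : mask h < 4096 := Nat.ofBits_lt_two_pow _

theorem subset_iff_mask (s b : Finset ArrayPt) : s ⊆ b ↔ mask s &&& mask b = mask s := by
  constructor
  · intro h
    refine Nat.eq_of_testBit_eq fun i => ?_
    rw [Nat.testBit_and]
    by_cases hi : i < 12
    · have h1 := testBit_mask s (pidx.symm ⟨i, hi⟩)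
      have h2 := testBit_mask b (pidx.symm ⟨i, hi⟩)
      simp only [Equiv.apply_symm_apply] at h1 h2
      rw [h1, h2]
      by_cases hm : pidx.symm ⟨i, hi⟩ ∈ s
      · simp [hm, h hm]
      · simp [hm]
    · have : (mask s).testBit i = false := by
        apply Nat.testBit_lt_two_pow
        exact lt_of_lt_of_le (mask_lt s) (Nat.pow_le_pow_right (n := 2) (by norm_num) (Nat.not_lt.1 hi) : 2 ^ 12 ≤ 2 ^ i)
      simp [this]
  · intro h p hp
    have h1 := congrArg (fun m => m.testBit (pidx p).val) h
    simpa [Nat.testBit_and, testBit_mask, hp] using h1

/-- The masks of the 132 blocks, each with a code word having that support. -/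
def hexList : List (ℕ × Fin 729) :=
  [(63, 134), (222, 393), (237, 289), (243, 410), (347, 439), (366, 318), (373, 335), (413, 154),
    (427, 32), (438, 102), (455, 269), (504, 459), (591, 284), (630, 429), (633, 379), (667, 112),
    (679, 17), (700, 117), (725, 415), (746, 276), (791, 97), (813, 37), (826, 141), (860, 369),
    (867, 247), (910, 51), (945, 83), (969, 299), (978, 327), (996, 252), (1117, 479), (1127, 259),
    (1146, 354), (1175, 95), (1198, 39), (1209, 137), (1227, 301), (1268, 342), (1295, 49), (1331, 85),
    (1340, 144), (1366, 417), (1385, 272), (1434, 114), (1445, 10), (1484, 279), (1489, 325), (1506, 249),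
    (1566, 156), (1579, 34), (1589, 100), (1619, 332), (1644, 306), (1677, 47), (1714, 87), (1734, 264),
    (1752, 432), (1761, 245), (1817, 110), (1830, 12), (1861, 262), (1866, 303), (1904, 405), (1923, 5),
    (1940, 90), (1960, 27), (2135, 346), (2155, 305), (2172, 441), (2191, 43), (2229, 91), (2234, 138),
    (2265, 353), (2278, 255), (2334, 120), (2343, 14), (2361, 109), (2381, 307), (2418, 330), (2451, 89),
    (2476, 45), (2506, 273), (2516, 423), (2529, 244), (2589, 146), (2606, 48), (2611, 86), (2650, 462),
    (2661, 263), (2710, 105), (2729, 29), (2755, 250), (2764, 315), (2800, 324), (2827, 35), (2868, 99),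
    (2886, 258), (2897, 407), (2920, 270), (2949, 11), (2968, 135), (2978, 3), (3099, 142), (3117, 38),
    (3126, 96), (3150, 294), (3185, 406), (3228, 126), (3235, 4), (3269, 254), (3282, 411), (3304, 297),
    (3349, 101), (3370, 33), (3395, 248), (3416, 378), (3428, 261), (3462, 15), (3465, 28), (3504, 81),
    (3591, 13), (3640, 108), (3657, 271), (3668, 333), (3682, 246), (3722, 30), (3729, 82), (3748, 9),
    (3852, 36), (3858, 84), (3873, 1), (4032, 243)]

/-- Membership table of the block masks. -/
def hexTable : ℕ := 0x1000000000000000000000000000000000000000200041000000000000000000000000010000204000000000400100200010000000000008000000000000000000001000000000240000000100100000800000400002000000000010000040020000000081000000000020000000040000040200008000000000000000000000000000004010000200000010000020040001000000000080000010000000010080000020000400000000000200400000000084000200000000000000200100400000010000008000000040000000020000200008040000000000000400200000004200000000080001000080000800000000000000000000000000000000000000000010000100008000100000000042000000040020000000000000201000040000400000000200000001000000800000020080040000000000000040002100000000020040000000000020000400000100800000000800000100000000008000200400000800000040000802000000000000000000000000000001000040200000200000000400000000008100000000400200000800000000004000020000010000080080000000240000000008000000000000000000001000000000000800040080020000000002040000800000000000000000000000008200040000000000000000000000000000000000000008000000000000000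

/-- The weight six supports. -/
def tBlocks : Set (Finset ArrayPt) :=
  {h | ∃ x ∈ ternaryGolayCode, ternarySupport x = h ∧ h.card = 6}

theorem hexList_spec : ∀ e ∈ hexList,
    ternarySupport (tWord e.2) = maskSet e.1 ∧ (maskSet e.1).card = 6 ∧ mask (maskSet e.1) = e.1 := by
  decide +kernel

theorem hexList_table : ∀ e ∈ hexList, hexTable.testBit e.1 = true := by decide +kernel

theorem table_check : ((List.range 4096).all fun m =>
    !(hexTable.testBit m) || (hexList.map Prod.fst).any (fun k => k == m)) = true := by
  decide +kernel

theorem table_in_list {m : ℕ} (hm : m < 4096) (h : hexTable.testBit m = true) :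
    m ∈ hexList.map Prod.fst := by
  have h0 := List.all_eq_true.1 table_check m (List.mem_range.2 hm)
  simpa [h] using h0

theorem support_check : ((List.finRange 729).all fun n =>
    !((ternarySupport (tWord n)).card == 6) ||
      hexTable.testBit (mask (ternarySupport (tWord n)))) = true := by
  decide +kernel

theorem support_in_list (n : Fin 729) (hn : (ternarySupport (tWord n)).card = 6) :
    hexTable.testBit (mask (ternarySupport (tWord n))) = true ∧
      mask (ternarySupport (tWord n)) ∈ hexList.map Prod.fst := by
  have h0 := List.all_eq_true.1 support_check n (List.mem_finRange n)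
  have h1 : hexTable.testBit (mask (ternarySupport (tWord n))) = true := by simpa [hn] using h0
  exact ⟨h1, table_in_list (mask_lt _) h1⟩

theorem mem_tBlocks_iff_list (h : Finset ArrayPt) :
    h ∈ tBlocks ↔ mask h ∈ hexList.map Prod.fst := by
  constructor
  · rintro ⟨x, hx, rfl, hc⟩
    obtain ⟨n, rfl⟩ := (mem_code_iff_tWord x).1 hx
    exact (support_in_list n hc).2
  · intro hm
    obtain ⟨e, he, hm⟩ := List.mem_map.1 hm
    obtain ⟨h1, h2, -⟩ := hexList_spec e he
    have : maskSet e.1 = h := by rw [hm, maskSet_mask]
    exact ⟨tWord e.2, (mem_code_iff_tWord _).2 ⟨_, rfl⟩, h1.trans this, this ▸ h2⟩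

theorem mem_tBlocks_iff_table (h : Finset ArrayPt) :
    h ∈ tBlocks ↔ hexTable.testBit (mask h) = true := by
  rw [mem_tBlocks_iff_list]
  refine ⟨fun hm => ?_, table_in_list (mask_lt h)⟩
  obtain ⟨e, he, hm⟩ := List.mem_map.1 hm
  exact hm ▸ hexList_table e he

theorem tBlocks_steiner : IsSteinerSystem 5 6 tBlocks := by
  refine ⟨?_, ?_⟩
  · rintro b ⟨x, -, -, hc⟩
    exact hc
  · have key : ((List.range 4096).all fun k =>
        !((Finset.univ.filter fun i : Fin 12 => k.testBit i.val).card == 5) ||
          (((hexList.map Prod.fst).filter fun m => k &&& m == k).length == 1)) = true := by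
      decide +kernel
    intro s hs
    have hc : (Finset.univ.filter fun i : Fin 12 => (mask s).testBit i.val).card = 5 := by
      rw [← hs, ← Finset.card_map pidx.toEmbedding (s := s)]
      refine congrArg Finset.card ?_
      ext i
      obtain ⟨p, rfl⟩ := pidx.surjective i
      simp [testBit_mask]
    have h0 := List.all_eq_true.1 key (mask s) (List.mem_range.2 (mask_lt s))
    obtain ⟨m, hm⟩ := List.length_eq_one_iff.1
      (show ((hexList.map Prod.fst).filter fun m => mask s &&& m == mask s).length = 1 by
        simpa [hc] using h0)
    have hmm : m ∈ hexList.map Prod.fst ∧ mask s &&& m = mask s := by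
      have : m ∈ ((hexList.map Prod.fst).filter fun m => mask s &&& m == mask s) := by simp [hm]
      simpa using this
    obtain ⟨e, he, rfl⟩ := List.mem_map.1 hmm.1
    obtain ⟨-, -, h3⟩ := hexList_spec e he
    refine ⟨maskSet e.1, ⟨(mem_tBlocks_iff_list _).2 (h3.symm ▸ hmm.1), ?_⟩, ?_⟩
    · rw [subset_iff_mask, h3]; exact hmm.2
    · rintro b ⟨hb, hsb⟩
      rw [subset_iff_mask] at hsb
      have hb' := (mem_tBlocks_iff_list b).1 hb
      have : mask b ∈ ((hexList.map Prod.fst).filter fun m => mask s &&& m == mask s) := by
        simp [List.mem_filter, hsb, hb']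
      rw [hm, List.mem_singleton] at this
      rw [← this, maskSet_mask]

theorem tBlocks_ncard : tBlocks.ncard = 132 := by
  have h : tBlocks = maskSet '' {m | m ∈ (hexList.map Prod.fst).toFinset} := by
    ext b
    simp only [Set.mem_image, Set.mem_setOf_eq, List.mem_toFinset]
    constructor
    · intro hb
      exact ⟨mask b, (mem_tBlocks_iff_list b).1 hb, maskSet_mask b⟩
    · rintro ⟨m, hm, rfl⟩
      obtain ⟨e, he, rfl⟩ := List.mem_map.1 hm
      rw [mem_tBlocks_iff_list, (hexList_spec e he).2.2]
      exact hm
  rw [h, Set.InjOn.ncard_image]
  · show (((hexList.map Prod.fst).toFinset : Finset ℕ) : Set ℕ).ncard = 132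
    rw [Set.ncard_coe_finset]
    decide +kernel
  · intro a ha b hb hab
    simp only [Set.mem_setOf_eq, List.mem_toFinset] at ha hb
    obtain ⟨e, he, rfl⟩ := List.mem_map.1 ha
    obtain ⟨e', he', rfl⟩ := List.mem_map.1 hb
    rw [← (hexList_spec e he).2.2, hab, (hexList_spec e' he').2.2]

end Cfsg.Agent.Lib.SmallCodes
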