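import Cfsg.Agent.Lib.Compute.Cert
import Cfsg.Agent.Lib.SmallCodes.TernaryDesign

/-!
# The automorphisms of the ternary code
-/

set_option autoImplicit false

namespace Cfsg.Agent.Lib.SmallCodes

open Cfsg Cfsg.Agent.Lib.Compute Equiv
open scoped Pointwise

/-- level 0 of `m12Cert` -/
def m12Cert0 : Lvl where
  base := 0
  gens := [(0x70004000b00060001000a000000050002000800090003, 0x9000600010002000b00080004000a0000000300070005), (0xa000b0008000400030006000200070001000900050000, 0xa000b0002000900040006000100080007000500030000), (0x6000800040007000b0002000a00090005000300010000, 0x700050004000a0008000b000300090002000600010000), (0x500090007000a0008000300060004000b000200010000, 0x30008000a000700090005000b00040006000200010000), (0x8000b00050007000a0004000600090003000200010000, 0xa00070004000b00080005000900060003000200010000), (0x40009000800060005000a000b00070003000200010000, 0x50006000a0009000400080007000b0003000200010000)]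
  trans := [(0x70004000b00060001000a000000050002000800090003, 0, 0),
    (0x100050007000a000900040003000000080006000b0002, 0, 1),
    (0x30007000a00060005000b000000020009000400080001, 1, 1),
    (0xb000900060002000100080000000a0003000700040005, 2, 1),
    (0x800040005000300010009000000060002000a0007000b, 3, 1),
    (0x9000000010004000b0005000200030006000a00070008, 0, 2),
    (0x500020003000b000800070001000000040006000a0009, 1, 2),
    (0x600040002000300010007000000080005000b0009000a, 2, 4),
    (0x50007000300020001000a00000009000b000800040006, 3, 4),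
    (0x60005000000020009000b0003000a0008000400010007, 0, 5),
    (0x60007000b0003000100080000000a0002000900050004, 5, 5)]
  wit := [[[1],[2],[6],[7,2,3,5,5],[0,1,1,0,5],[10],[9,10,7,8],[5,3,5,6,5],[11,6,3,4,3],[8,7,6,6],[3,7,0,6,5],[4,1,4,3,4]],
    [[0,1],[3],[7],[4,0,0,5,1],[2,6,9,2,4],[8,8,4,1],[11,8,0,8,3],[6,10,5,4,5],[5,5,2,6],[9,3,1,2,6],[1,9,8,7],[10,8,5,5]],
    [[0,0,1],[4],[1,8,5,0,4],[3,3,2,7,7],[8],[9,7,5,0,3],[10,4,5,4,6],[11,4,5,3,5],[6,8,5,2,5],[2,10,3,1],[5,10,9,8,2],[7,0,1,4,5]],
    [[0,0,0,1],[5],[2,3,9,3,2],[3,6,1,7,5],[9],[4,4,8,8,1],[8,9,1,3,6],[10,10,4,1,4],[7,4,9,1,3],[1,3,4,7,3],[6,6,2,5,7],[11,5,5,8,7]],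
    [[0,0,0,0,1],[1,9,8,5],[2,7,3,2,5],[3,3,2,8,3],[9,9,4,0,4],[6,2,6,1,3],[10,9,4,5,1],[4,5,1,1,5],[5,6,4,7,3],[11,2,4,3,5],[8,10,7,8,3],[7,2,3,6,5]],
    [[0,0,0,0,2],[1,2,0,4,1],[2,4,7,4,1],[3,8,9,5],[5,0,8,2,7],[11],[9,5,4,4,3],[6,5,2,5,4],[7,10,5,0,2],[8,4,9],[4,10,1,7,6],[10,4,5,4,7]]]

/-- level 1 of `m12Cert` -/
def m12Cert1 : Lvl where
  base := 1
  gens := [(0xa000b0008000400030006000200070001000900050000, 0xa000b0002000900040006000100080007000500030000), (0x6000800040007000b0002000a00090005000300010000, 0x700050004000a0008000b000300090002000600010000), (0x500090007000a0008000300060004000b000200010000, 0x30008000a000700090005000b00040006000200010000), (0x8000b00050007000a0004000600090003000200010000, 0xa00070004000b00080005000900060003000200010000), (0x40009000800060005000a000b00070003000200010000, 0x50006000a0009000400080007000b0003000200010000)]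
  trans := [(0xa000b0008000400030006000200070001000900050000, 0, 0),
    (0xb000a0004000700010006000900030005000800020000, 0, 1),
    (0x8000600070009000500020003000b00010004000a0000, 1, 1),
    (0x90005000a0004000b0003000200080001000700060000, 2, 1),
    (0x90004000600070003000a0002000500010008000b0000, 4, 1),
    (0xa000b0007000300050006000800010002000400090000, 0, 2),
    (0x600080009000b0001000200040005000a000700030000, 1, 2),
    (0x70002000b0004000a0003000500060001000900080000, 1, 3),
    (0x50006000b000900080003000200070001000a00040000, 3, 4),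
    (0x900050008000b00060003000a00010002000400070000, 2, 6)]
  wit := [[[1],[2],[6],[5,6,0,2],[4,5,2,2],[3,0,7,5],[8,3,5,4],[0,1,7,5],[9,9,3,5],[10,6,4],[7,0,8,2]],
    [[0,1],[3],[7],[8],[2,3,4,5],[4,0,0,1],[9,6,7,1],[1,4,4,3],[10,0,4,6],[6,2,4,6],[5,3,4,7]],
    [[0,0,1],[4],[2,4,3,1],[6,0,4],[7,4,2,6],[1,3,1,6],[10],[5,0,1,5],[3,8,3,1],[9,6,1,2],[8,6,4,7]],
    [[0,0,0,1],[4,4,1],[2,6,7,6],[5,3,1,3],[9],[8,3,1,5],[1,0,2,3],[7,1,6],[10,4,8,5],[6,4,8],[3,6,7,1]],
    [[0,0,0,2],[5],[2,5,5],[6,8,8,5],[3,9,5,6],[9,4,1],[8,3,6,6],[7,7,6,4],[4,7,1,4],[10,3,8],[1,7,4,7]]]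

/-- level 2 of `m12Cert` -/
def m12Cert2 : Lvl where
  base := 2
  gens := [(0x6000800040007000b0002000a00090005000300010000, 0x700050004000a0008000b000300090002000600010000), (0x500090007000a0008000300060004000b000200010000, 0x30008000a000700090005000b00040006000200010000), (0x8000b00050007000a0004000600090003000200010000, 0xa00070004000b00080005000900060003000200010000), (0x40009000800060005000a000b00070003000200010000, 0x50006000a0009000400080007000b0003000200010000)]
  trans := [(0x6000800040007000b0002000a00090005000300010000, 0, 0),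
    (0x200070009000b0006000300080004000a000500010000, 0, 1),
    (0x3000a0004000800050002000900070006000b00010000, 1, 1),
    (0x3000b0004000600020005000700090008000a00010000, 0, 2),
    (0x20008000700050003000b000a00040009000600010000, 1, 2),
    (0x3000b00090007000600020005000a0004000800010000, 2, 3),
    (0x3000900070006000b000200080005000a000400010000, 3, 3),
    (0xb0005000400030002000600080007000a000900010000, 1, 4),
    (0x500060004000b00020003000a00080009000700010000, 0, 6)]
  wit := [[[1],[2],[4],[5,1,3],[6,3,6],[0,4,4],[9],[8,2,3],[7,2,5],[3,8,2]],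
    [[0,1],[3],[5],[2,5,6],[8],[1,3],[4,8,2],[7,6,2],[9],[6,3,3]],
    [[0,0,1],[1,1,6],[5,5,7],[6],[3,4],[7,4,3],[9,0,4],[8,1,3],[2,3,6],[4,5,6]],
    [[0,0,2],[1,7,2],[3,2],[7],[8,5,6],[4,0,3],[5,8,6],[9,0,4],[6,8,4],[2,2,5]]]

/-- level 3 of `m12Cert` -/
def m12Cert3 : Lvl where
  base := 3
  gens := [(0x500090007000a0008000300060004000b000200010000, 0x30008000a000700090005000b00040006000200010000), (0x8000b00050007000a0004000600090003000200010000, 0xa00070004000b00080005000900060003000200010000), (0x40009000800060005000a000b00070003000200010000, 0x50006000a0009000400080007000b0003000200010000)]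
  trans := [(0x500090007000a0008000300060004000b000200010000, 0, 0),
    (0x6000700080009000a000b000300040005000200010000, 0, 1),
    (0x60005000a000b00070003000400090008000200010000, 1, 1),
    (0xb00080005000900060003000a00070004000200010000, 2, 1),
    (0x30008000a000700090005000b00040006000200010000, 0, 2),
    (0x30006000900050008000b00040007000a000200010000, 0, 3),
    (0x40006000b0008000a0003000900050007000200010000, 1, 3),
    (0x800070006000500040003000b000a0009000200010000, 1, 4)]
  wit := [[[1],[2],[5],[6],[4,5],[0],[8,7],[3,7],[7,3]],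
    [[0,1],[3],[5,2],[7],[8],[4,4],[1,4],[6,5],[2,6]],
    [[0,2],[4],[1,1],[5,5],[7],[6],[8,4],[2,6],[3]]]

/-- level 4 of `m12Cert` -/
def m12Cert4 : Lvl where
  base := 4
  gens := [(0x8000b00050007000a0004000600090003000200010000, 0xa00070004000b00080005000900060003000200010000), (0x40009000800060005000a000b00070003000200010000, 0x50006000a0009000400080007000b0003000200010000)]
  trans := [(0x8000b00050007000a0004000600090003000200010000, 0, 0),
    (0x40009000800060005000a000b00070003000200010000, 1, 0),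
    (0x700080006000a000b0009000400050003000200010000, 0, 1),
    (0x60004000b000500090007000a00080003000200010000, 1, 1),
    (0x90005000700040006000b0008000a0003000200010000, 0, 2),
    (0xa00070004000b00080005000900060003000200010000, 0, 3),
    (0x50006000a0009000400080007000b0003000200010000, 1, 3)]
  wit := [[[1],[3],[5],[6],[2],[7],[0],[4]],
    [[2],[4],[3],[7],[6],[1],[5],[0]]]

/-- the certificate `m12Cert`, orbit lengths [12, 11, 10, 9, 8] -/
def m12Cert : List Lvl := [m12Cert0, m12Cert1, m12Cert2, m12Cert3, m12Cert4]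

/-- Sign masks lifting the generators of the certificate to the code. -/
def m12Signs : List ℕ := [1112, 1490, 1337, 3, 6, 5]

theorem m12Cert_chk : chk 12 m12Cert = true := by decide +kernel

theorem m12Cert_order : certOrder m12Cert = 95040 := by decide +kernel

/-- The value of a generator with signs on a code word. -/
def signedWord (g : ℕ × ℕ) (c : ℕ) (x : ArrayPt → ZMod 3) : ArrayPt → ZMod 3 := fun p =>
  (if c.testBit (pidx p).val then -1 else 1) *
    x (pidx.symm ⟨app g.2 (pidx p).val % 12, Nat.mod_lt _ (by norm_num)⟩)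

theorem m12_lifts : ∀ gc ∈ m12Cert0.gens.zip m12Signs, ∀ j : Fin 6,
    tComb (fun k => signedWord gc.1 gc.2 (tGen j) (tInfo k)) = signedWord gc.1 gc.2 (tGen j) := by
  decide +kernel

theorem m12_zip : (m12Cert0.gens.zip m12Signs).map Prod.fst = m12Cert0.gens := by decide +kernel

/-- The monomial maps preserving the code. -/
def tMono : Set (Perm ArrayPt × (ArrayPt → (ZMod 3)ˣ)) :=
  {f | ∀ x ∈ ternaryGolayCode, monomialMap f.1 f.2 x ∈ ternaryGolayCode}

theorem tMono_mul {σ τ : Perm ArrayPt} {c d : ArrayPt → (ZMod 3)ˣ} (h1 : (σ, c) ∈ tMono)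
    (h2 : (τ, d) ∈ tMono) : (σ * τ, fun p => c p * d (σ.symm p)) ∈ tMono := by
  intro x hx
  have := h1 _ (h2 x hx)
  convert this using 1
  funext p
  simp [monomialMap, mul_assoc, Perm.mul_def]

/-- The permutation parts. -/
def tProj : Submonoid (Perm ArrayPt) where
  carrier := {σ | ∃ c, (σ, c) ∈ tMono}
  one_mem' := ⟨fun _ => 1, fun x hx => by
    have : monomialMap (1 : Perm ArrayPt) (fun _ => (1 : (ZMod 3)ˣ)) x = x := by
      funext p; simp [monomialMap]; rfl
    rw [this]; exact hx⟩
  mul_mem' := fun ⟨c, hc⟩ ⟨d, hd⟩ => ⟨_, tMono_mul hc hd⟩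

/-- Transport from `Fin 12`. -/
noncomputable def toArr : Perm (Fin 12) →* Perm ArrayPt := pidx.symm.permCongrHom.toMonoidHom

theorem toArr_injective : Function.Injective toArr := pidx.symm.permCongrHom.injective

theorem gen_mem_tProj (g : ℕ × ℕ) (hg : g ∈ m12Cert0.gens) : toArr (toPerm 12 g.1) ∈ tProj := by
  obtain ⟨gc, hgc, rfl⟩ : ∃ gc ∈ m12Cert0.gens.zip m12Signs, gc.1 = g := by
    rw [← m12_zip] at hg
    obtain ⟨gc, h1, h2⟩ := List.mem_map.1 hg
    exact ⟨gc, h1, h2⟩
  have hok : ∀ g ∈ m12Cert0.gens, genOk 12 g = true := by decide +kernel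
  have hinv : ∀ g ∈ m12Cert0.gens, ∀ i : Fin 12,
      app g.2 i.val < 12 ∧ app g.1 (app g.2 i.val) = i.val := by decide +kernel
  refine ⟨fun p => if gc.2.testBit (pidx p).val then -1 else 1, fun x hx => ?_⟩
  have hm : monomialMap (toArr (toPerm 12 gc.1.1))
      (fun p => if gc.2.testBit (pidx p).val then -1 else 1) = signedWord gc.1 gc.2 := by
    funext x p
    have hp : (toArr (toPerm 12 gc.1.1)).symm p =
        pidx.symm ⟨app gc.1.2 (pidx p).val % 12, Nat.mod_lt _ (by norm_num)⟩ := by
      rw [Equiv.symm_apply_eq]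
      have hh := hinv gc.1 hg (pidx p)
      simp only [toArr, MulEquiv.coe_toMonoidHom, Equiv.permCongrHom_coe, Equiv.permCongr_apply,
        Equiv.symm_symm, Equiv.apply_symm_apply]
      apply pidx.injective
      rw [Equiv.apply_symm_apply]
      apply Fin.ext
      rw [repr_toPerm_of_genOk (hok gc.1 hg)]
      simp only [Nat.mod_eq_of_lt hh.1, hh.2]
    simp only [monomialMap, signedWord, hp]
    split_ifs <;> simp
  show monomialMap (toArr (toPerm 12 gc.1.1))
      (fun p => if gc.2.testBit (pidx p).val then -1 else 1) x ∈ ternaryGolayCode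
  rw [hm]
  obtain ⟨a, rfl⟩ := (mem_code_iff x).1 hx
  have : signedWord gc.1 gc.2 (tComb a) = ∑ j, a j • signedWord gc.1 gc.2 (tGen j) := by
    funext p
    simp only [signedWord, tComb, Finset.mul_sum, Finset.sum_apply, Pi.smul_apply, smul_eq_mul]
    exact Finset.sum_congr rfl fun j _ => mul_left_comm _ _ _
  rw [this]
  exact Submodule.sum_mem _ fun j _ => Submodule.smul_mem _ _
    (m12_lifts gc hgc j ▸ tComb_mem _)

theorem grp_le_tProj (τ : Perm (Fin 12)) (hτ : τ ∈ grp 12 m12Cert) : toArr τ ∈ tProj := by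
  have hfin : τ ∈ Submonoid.closure ((fun g => toPerm 12 g.1) '' {g | g ∈ m12Cert0.gens}) := by
    rw [← Subgroup.closure_toSubmonoid_of_finite]
    exact hτ
  refine (Submonoid.closure_le (S := tProj.comap toArr)).2 ?_ hfin
  rintro _ ⟨g, hg, rfl⟩
  exact gen_mem_tProj g hg

theorem tProj_le_aut {σ : Perm ArrayPt} (h : σ ∈ tProj) : σ ∈ setSystemAut tBlocks := by
  obtain ⟨c, hc⟩ := h
  rw [setSystemAut, MulAction.mem_stabilizer_set_iff_subset_smul_set (Set.toFinite _)] <;>
    try skip
  intro b hb
  rw [Set.mem_smul_set_iff_inv_smul_mem]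
  obtain ⟨x, hx, rfl, h6⟩ := hb
  obtain ⟨n, hn⟩ : ∃ n : ℕ, (σ⁻¹ : Perm ArrayPt) = σ ^ n :=
    ⟨orderOf σ - 1, by rw [inv_eq_iff_mul_eq_one, ← pow_succ', Nat.sub_add_cancel (orderOf_pos σ), pow_orderOf_eq_one]⟩
  have hp : σ ^ n ∈ tProj := pow_mem (show σ ∈ tProj from ⟨c, hc⟩) n
  rw [← hn] at hp
  obtain ⟨d, hd⟩ := hp
  refine ⟨monomialMap σ⁻¹ d x, hd x hx, ?_, ?_⟩
  · ext p
    rw [Finset.mem_inv_smul_finset_iff]
    simp [ternarySupport, monomialMap, Perm.inv_def, Perm.smul_def]
  · rw [Finset.card_smul_finset]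
    exact h6

/-- The image of a block mask under a list of preimages. -/
def imgMask (l : List ℕ) (m : ℕ) : ℕ :=
  Nat.ofBits fun i : Fin 12 => m.testBit (([0, 1, 2, 3, 4] ++ l).getD i.val 0)

theorem rigid_check : (([5, 6, 7, 8, 9, 10, 11] : List ℕ).permutations'.all fun l =>
    (l == [5, 6, 7, 8, 9, 10, 11]) ||
      ((hexList.map Prod.fst).any fun m => !hexTable.testBit (imgMask l m))) = true := by
  decide +kernel

theorem perm_rigid : ∀ l ∈ ([5, 6, 7, 8, 9, 10, 11] : List ℕ).permutations',
    l = [5, 6, 7, 8, 9, 10, 11] ∨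
      ((hexList.map Prod.fst).any fun m => !hexTable.testBit (imgMask l m)) = true := by
  intro l hl
  have h := List.all_eq_true.1 rigid_check l hl
  rw [Bool.or_eq_true, beq_iff_eq] at h
  exact h

theorem aut_fix_five {σ : Perm ArrayPt} (h : σ ∈ setSystemAut tBlocks)
    (h5 : ∀ i : Fin 5, σ (pidx.symm ⟨i.val, by omega⟩) = pidx.symm ⟨i.val, by omega⟩) : σ = 1 := by
  set τ : Perm (Fin 12) := pidx.permCongr σ⁻¹ with hτ
  have hfix : ∀ i : Fin 12, i.val < 5 → τ i = i := by
    intro i hi
    have h1 := h5 ⟨i.val, hi⟩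
    simp only [hτ, Equiv.permCongr_apply]
    rw [← Equiv.eq_symm_apply, Perm.inv_eq_iff_eq]
    exact h1.symm
  set l : List ℕ := List.ofFn fun i : Fin 7 => (τ ⟨i.val + 5, by omega⟩).val with hl
  have hlmem : l ∈ ([5, 6, 7, 8, 9, 10, 11] : List ℕ).permutations' := by
    rw [List.mem_permutations']
    have hnd : l.Nodup := by
      rw [hl, List.nodup_ofFn]
      intro a b hab
      have := τ.injective (Fin.ext hab)
      simpa [Fin.ext_iff] using this
    refine (List.perm_ext_iff_of_nodup hnd (by decide)).2 fun a => ?_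
    have hsub : ∀ a ∈ l, a ∈ ([5, 6, 7, 8, 9, 10, 11] : List ℕ) := by
      intro a ha
      simp only [hl, List.mem_ofFn, Set.mem_range] at ha
      obtain ⟨i, rfl⟩ := ha
      have hlt := (τ ⟨i.val + 5, by omega⟩).isLt
      have hge : ¬ (τ ⟨i.val + 5, by omega⟩).val < 5 := fun hh => by
        have h2 := τ.injective (hfix _ hh)
        rw [h2] at hh
        simp at hh
      simp only [List.mem_cons, List.not_mem_nil, or_false]
      omega
    refine ⟨hsub a, fun ha => ?_⟩
    exact ((List.subperm_of_subset hnd hsub).perm_of_length_le (by simp [hl])).symm.subset ha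
  have hget : ∀ i : Fin 12, ([0, 1, 2, 3, 4] ++ l).getD i.val 0 = (τ i).val := by
    intro i
    by_cases hi : i.val < 5
    · rw [List.getD_append _ _ _ _ (by simpa using hi), hfix i hi]
      have : ∀ k < 5, ([0, 1, 2, 3, 4] : List ℕ).getD k 0 = k := by decide
      exact this _ hi
    · rw [List.getD_append_right _ _ _ _ (by simpa using hi)]
      have hlen : i.val - 5 < l.length := by simp [hl]; omega
      have heq : (⟨i.val - 5 + 5, by omega⟩ : Fin 12) = i := Fin.ext (by simp; omega)
      simp only [List.length_cons, List.length_nil]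
      rw [List.getD_eq_getElem _ _ hlen]
      simp only [hl, List.getElem_ofFn]
      exact congrArg (fun j => (τ j).val) heq
  rcases perm_rigid l hlmem with hid | hbad
  · have hone : τ = 1 := by
      apply Equiv.ext
      intro i
      apply Fin.ext
      rw [← hget i, hid, Perm.one_apply]
      have : ∀ k < 12, ([0, 1, 2, 3, 4] ++ [5, 6, 7, 8, 9, 10, 11] : List ℕ).getD k 0 = k := by decide
      exact this _ i.isLt
    have : σ⁻¹ = 1 := pidx.permCongr.injective (by
      rw [← hτ, hone]; ext i; simp)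
    exact inv_eq_one.1 this
  · exfalso
    rw [List.any_eq_true] at hbad
    obtain ⟨m, hm, hm'⟩ := hbad
    obtain ⟨e, he, rfl⟩ := List.mem_map.1 hm
    obtain ⟨-, -, h3⟩ := hexList_spec e he
    have hb : maskSet e.1 ∈ tBlocks := (mem_tBlocks_iff_list _).2 (h3.symm ▸ hm)
    have hσb : σ • maskSet e.1 ∈ tBlocks := by
      have := Set.smul_mem_smul_set (a := σ) hb
      rwa [MulAction.mem_stabilizer_iff.1 h] at this
    rw [mem_tBlocks_iff_table] at hσb
    have himg : imgMask l e.1 = mask (σ • maskSet e.1) := by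
      unfold imgMask mask
      congr 1
      funext i
      rw [hget i, ← h3]
      have := testBit_mask (maskSet e.1) (pidx.symm (τ i))
      rw [Equiv.apply_symm_apply] at this
      rw [this, maskSet_mask]
      apply decide_eq_decide.2
      rw [← Finset.inv_smul_mem_iff]
      simp [hτ, Equiv.permCongr_apply, Perm.smul_def]
    simp [himg, hσb] at hm'

theorem card_aut_le : Nat.card (setSystemAut tBlocks) ≤ 95040 := by
  let f : setSystemAut tBlocks → (Fin 5 ↪ ArrayPt) := fun σ =>
    ⟨fun i => (σ : Perm ArrayPt) (pidx.symm ⟨i.val, by omega⟩), fun a b h => by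
      have := pidx.symm.injective ((σ : Perm ArrayPt).injective h)
      exact Fin.ext (show a.val = b.val from congrArg (fun k : Fin 12 => k.val) this)⟩
  have hf : Function.Injective f := by
    intro a b h
    have h2 := aut_fix_five ((b⁻¹ * a : setSystemAut tBlocks)).2 (fun i => by
      have e : (a : Perm ArrayPt) (pidx.symm ⟨i.val, by omega⟩) =
          (b : Perm ArrayPt) (pidx.symm ⟨i.val, by omega⟩) := DFunLike.congr_fun h i
      simp only [Subgroup.coe_mul, Subgroup.coe_inv, Perm.mul_apply, e, Perm.mul_apply,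
        Equiv.Perm.inv_def, Equiv.symm_apply_apply])
    exact (inv_mul_eq_one.1 (Subtype.ext h2)).symm
  refine (Nat.card_le_card_of_injective f hf).trans ?_
  rw [Nat.card_eq_fintype_card, Fintype.card_embedding_eq]
  decide

theorem tProj_eq_aut (σ : Perm ArrayPt) : σ ∈ tProj ↔ σ ∈ setSystemAut tBlocks := by
  refine ⟨tProj_le_aut, fun hσ => ?_⟩
  have hle : (grp 12 m12Cert).map toArr ≤ setSystemAut tBlocks := by
    rintro _ ⟨τ, hτ, rfl⟩
    exact tProj_le_aut (grp_le_tProj τ hτ)
  have heq := Subgroup.eq_of_le_of_card_ge hle (by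
    rw [← Nat.card_congr ((grp 12 m12Cert).equivMapOfInjective toArr toArr_injective).toEquiv,
      card_grp m12Cert_chk, m12Cert_order]
    exact card_aut_le)
  rw [← heq] at hσ
  obtain ⟨τ, hτ, rfl⟩ := hσ
  exact grp_le_tProj τ hτ

theorem card_aut : Nat.card (setSystemAut tBlocks) = 95040 := by
  refine le_antisymm card_aut_le ?_
  rw [← m12Cert_order, ← card_grp m12Cert_chk]
  refine Nat.card_le_card_of_injective
    (fun τ => (⟨toArr τ.1, tProj_le_aut (grp_le_tProj τ.1 τ.2)⟩ : setSystemAut tBlocks)) ?_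
  intro a b h
  exact Subtype.ext (toArr_injective (congrArg Subtype.val h))

end Cfsg.Agent.Lib.SmallCodes
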